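import Mathlib

/-!
# `SL_n` of a local ring lies in the commutator subgroup of `GL_n`
-/

universe u

open Matrix

namespace SLCommLib

variable {R : Type u} [CommRing R] {n : ℕ}

/-- A diagonal matrix as an element of `GL`. -/
def diagU (d : Fin n → Rˣ) : GL (Fin n) R where
  val := Matrix.diagonal fun i => (d i : R)
  inv := Matrix.diagonal fun i => ((d i)⁻¹ : Rˣ)
  val_inv := by rw [Matrix.diagonal_mul_diagonal]; simp
  inv_val := by rw [Matrix.diagonal_mul_diagonal]; simp

/-- A transvection as an element of `GL`. -/
def transU (i j : Fin n) (h : i ≠ j) (c : R) : GL (Fin n) R where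
  val := Matrix.transvection i j c
  inv := Matrix.transvection i j (-c)
  val_inv := by rw [Matrix.transvection_mul_transvection_same i j h, add_neg_cancel, Matrix.transvection_zero]
  inv_val := by rw [Matrix.transvection_mul_transvection_same i j h, neg_add_cancel, Matrix.transvection_zero]

theorem diagU_conj_transU (d : Fin n → Rˣ) (i j : Fin n) (h : i ≠ j) (c : R) :
    diagU d * transU i j h c * (diagU d)⁻¹ = transU i j h ((d i : R) * c * ((d j)⁻¹ : Rˣ)) := by
  ext a b
  show (Matrix.diagonal (fun i => (d i : R)) * Matrix.transvection i j c *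
    Matrix.diagonal (fun i => (((d i)⁻¹ : Rˣ) : R))) a b = Matrix.transvection i j _ a b
  rw [Matrix.mul_diagonal, Matrix.diagonal_mul]
  simp only [Matrix.transvection, Matrix.add_apply, Matrix.one_apply, Matrix.single_apply]
  rw [mul_add, add_mul]
  congr 1
  · split_ifs with hab
    · subst hab; simp
    · simp
  · split_ifs with hab
    · rw [hab.1, hab.2]
    · simp

theorem transU_mem (u : Rˣ) (hu : IsUnit ((u : R) - 1)) (i j : Fin n) (h : i ≠ j) (x : R) :
    transU i j h x ∈ commutator (GL (Fin n) R) := by
  obtain ⟨v, hv⟩ := hu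
  let D : GL (Fin n) R := diagU (Function.update 1 i u)
  let T := transU i j h (x * ((v⁻¹ : Rˣ) : R))
  have key : D * T * D⁻¹ * T⁻¹ = transU i j h x := by
    rw [diagU_conj_transU]
    apply Units.ext
    show Matrix.transvection i j _ * Matrix.transvection i j _ = Matrix.transvection i j x
    rw [Matrix.transvection_mul_transvection_same i j h]
    congr 1
    simp only [Function.update_self, Function.update_of_ne (Ne.symm h), Pi.one_apply, inv_one, Units.val_one, mul_one]
    calc (u : R) * (x * ((v⁻¹ : Rˣ) : R)) + -(x * ((v⁻¹ : Rˣ) : R))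
        = x * (((u : R) - 1) * ((v⁻¹ : Rˣ) : R)) := by ring
      _ = x := by rw [← hv, Units.mul_inv, mul_one]
  rw [← key, commutator_def]
  exact Subgroup.commutator_mem_commutator (Subgroup.mem_top _) (Subgroup.mem_top _)

theorem diagU_pair_mem (a : Rˣ) (i j : Fin n) (h : i ≠ j) :
    diagU (Function.update (Function.update 1 i a) j a⁻¹) ∈ commutator (GL (Fin n) R) := by
  let D : GL (Fin n) R := diagU (Function.update 1 i a)
  let W : GL (Fin n) R := GeneralLinearGroup.swap R i j
  have hWD : W * diagU (Function.update 1 j a⁻¹) = D⁻¹ * W := by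
    ext x y
    show (Matrix.swap R i j * Matrix.diagonal (fun k => ((Function.update 1 j a⁻¹ : Fin n → Rˣ) k : R)) : Matrix (Fin n) (Fin n) R) x y =
      (Matrix.diagonal (fun k => (((Function.update 1 i a : Fin n → Rˣ) k)⁻¹ : Rˣ).1) * Matrix.swap R i j : Matrix (Fin n) (Fin n) R) x y
    rw [Matrix.mul_diagonal, Matrix.diagonal_mul, mul_comm]
    by_cases hxy : Equiv.swap i j x = y
    · congr 2
      subst hxy
      rcases eq_or_ne x i with rfl | hxi
      · simp
      · rcases eq_or_ne x j with rfl | hxj
        · simp [h, h.symm, hxi]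
        · simp [Equiv.swap_apply_of_ne_of_ne hxi hxj, hxi, hxj]
    · simp [Matrix.swap, PEquiv.toMatrix_apply, hxy]
  have key : D * W * D⁻¹ * W⁻¹ = diagU (Function.update (Function.update 1 i a) j a⁻¹) := by
    have hWW : W⁻¹ = W := inv_eq_of_mul_eq_one_right (Units.ext (Matrix.swap_mul_self i j))
    simp only [hWW, mul_assoc]
    rw [← hWD, ← mul_assoc W W, show W * W = 1 from
      Units.ext (Matrix.swap_mul_self i j), one_mul]
    apply Units.ext
    show Matrix.diagonal _ * Matrix.diagonal _ = Matrix.diagonal _
    rw [Matrix.diagonal_mul_diagonal]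
    congr 1
    funext k
    rcases eq_or_ne k j with rfl | hkj
    · simp [h, h.symm]
    · simp [hkj]
  rw [← key, commutator_def]
  exact Subgroup.commutator_mem_commutator (Subgroup.mem_top _) (Subgroup.mem_top _)

/-- Over a local ring with a unit `u` such that `u - 1` is a unit, determinant one implies
membership in the commutator subgroup. -/
theorem mem_commutator [IsLocalRing R] (u : Rˣ) (hu : IsUnit ((u : R) - 1))
    (g : GL (Fin n) R) (hg : (g : Matrix (Fin n) (Fin n) R).det = 1) :
    g ∈ commutator (GL (Fin n) R) := by
  classical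
  let H := commutator (GL (Fin n) R)
  suffices ∀ (k : ℕ), k ≤ n → ∀ g : GL (Fin n) R, (g : Matrix (Fin n) (Fin n) R).det = 1 →
      (∀ i j : Fin n, j.val < n - k → g.1 i j = if i = j then 1 else 0) → g ∈ H from
    this n le_rfl g hg fun i j hj => absurd hj (by omega)
  intro k
  induction k with
  | zero =>
    intro _ g _ hcol
    have : g = 1 := Units.ext (Matrix.ext fun i j => by
      rw [hcol i j (by omega), Units.val_one, Matrix.one_apply])
    rw [this]; exact H.one_mem
  | succ k ih =>
    intro hk g hdet hcol
    let c : Fin n := ⟨n - (k + 1), by omega⟩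
    have hunit : ∃ i : Fin n, c ≤ i ∧ IsUnit (g.1 i c) := by
      by_contra hne
      push Not at hne
      let π := IsLocalRing.residue R
      have h0 : ∀ i, c ≤ i → π (g.1 i c) = 0 := fun i hi =>
        (IsLocalRing.residue_eq_zero_iff _).mpr (hne i hi)
      let v : Fin n → IsLocalRing.ResidueField R :=
        fun j => if j < c then -π (g.1 j c) else if j = c then 1 else 0
      have hv : v ≠ 0 := fun h => by simpa [v] using congrFun h c
      have hmv : Matrix.mulVec (g.1.map π) v = 0 := by
        funext i
        have e : ∀ j, (g.1.map π) i j * v j =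
            (if j = i then (if j < c then -π (g.1 j c) else 0) else 0) +
            (if j = c then π (g.1 i c) else 0) := by
          intro j
          rcases lt_trichotomy j c with hj | rfl | hj
          · rw [Matrix.map_apply, hcol i j (Fin.lt_def.mp hj)]
            by_cases hji : j = i
            · subst hji; simp [v, hj, hj.ne]
            · simp [v, hj, hj.ne, hji, Ne.symm hji]
          · simp [v]
          · simp [v, hj.not_gt, hj.ne']
        rw [Matrix.mulVec, dotProduct, Finset.sum_congr rfl fun j _ => e j, Finset.sum_add_distrib,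
          Finset.sum_ite_eq', Finset.sum_ite_eq', Pi.zero_apply]
        by_cases hi : i < c
        · simp [hi]
        · simp [hi, h0 i (not_lt.mp hi)]
      have := Matrix.exists_mulVec_eq_zero_iff.mp ⟨v, hv, hmv⟩
      rw [← RingHom.mapMatrix_apply, ← RingHom.map_det, hdet, map_one] at this
      exact one_ne_zero this
    obtain ⟨i₀, hi₀, hu₀⟩ := hunit
    -- make the pivot a unit
    obtain ⟨E₁, hE₁, hE₁u, hE₁c⟩ : ∃ E : GL (Fin n) R, E ∈ H ∧ IsUnit ((E * g).1 c c) ∧
        ∀ i j : Fin n, j.val < c.val → (E * g).1 i j = if i = j then 1 else 0 := by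
      by_cases hcc : IsUnit (g.1 c c)
      · exact ⟨1, H.one_mem, by rwa [one_mul], fun i j hj => by rw [one_mul]; exact hcol i j hj⟩
      · have hne : c ≠ i₀ := fun h => hcc (h ▸ hu₀)
        refine ⟨transU c i₀ hne 1, transU_mem u hu _ _ _ _, ?_, fun i j hj => ?_⟩
        · rw [Units.val_mul]
          show IsUnit ((Matrix.transvection c i₀ 1 * g.1 : Matrix (Fin n) (Fin n) R) c c)
          rw [Matrix.transvection_mul_apply_same, one_mul]
          by_contra hns
          have h1 := IsLocalRing.maximalIdeal R |>.sub_mem
            ((IsLocalRing.mem_maximalIdeal _).mpr hns) ((IsLocalRing.mem_maximalIdeal _).mpr hcc)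
          rw [add_sub_cancel_left] at h1
          exact (IsLocalRing.mem_maximalIdeal _).mp h1 hu₀
        · rw [Units.val_mul]
          show (Matrix.transvection c i₀ 1 * g.1 : Matrix (Fin n) (Fin n) R) i j = _
          rcases eq_or_ne i c with rfl | hic
          · rw [Matrix.transvection_mul_apply_same, one_mul, hcol c j hj, hcol i₀ j hj]
            have : i₀ ≠ j := fun h => by subst h; exact absurd hj (not_lt.mpr (Fin.le_def.mp hi₀))
            rw [if_neg this, add_zero]
          · rw [Matrix.transvection_mul_apply_of_ne _ _ _ _ hic, hcol i j hj]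
    let g₁ := E₁ * g
    have hdetH : ∀ E ∈ H, (E : GL (Fin n) R).1.det = 1 := by
      intro E hE
      have h1 : H ≤ (GeneralLinearGroup.det (n := Fin n) (R := R)).ker := Abelianization.commutator_subset_ker _
      exact congrArg Units.val (h1 hE)
    have hdet₁ : g₁.1.det = 1 := by
      rw [Units.val_mul, Matrix.det_mul, hdetH _ hE₁, hdet, one_mul]
    obtain ⟨w, hw⟩ := hE₁u
    -- clear the column
    have hclear : ∀ s : Finset (Fin n), c ∉ s → ∃ E : GL (Fin n) R, E ∈ H ∧
        (∀ i j : Fin n, j.val < c.val → (E * g₁).1 i j = if i = j then 1 else 0) ∧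
        (∀ i, (E * g₁).1 i c = if i ∈ s then 0 else g₁.1 i c) := by
      intro s
      induction s using Finset.induction with
      | empty => exact fun _ => ⟨1, H.one_mem, fun i j hj => by rw [one_mul]; exact hE₁c i j hj, fun i => by simp⟩
      | insert a s ha ihs =>
        intro hc
        simp only [Finset.mem_insert, not_or] at hc
        obtain ⟨E, hE, hEc, hEs⟩ := ihs hc.2
        let t : R := -(g₁.1 a c * ((w⁻¹ : Rˣ) : R))
        refine ⟨transU a c (Ne.symm hc.1) t * E, H.mul_mem (transU_mem u hu _ _ _ _) hE, fun i j hj => ?_, fun i => ?_⟩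
        · rw [mul_assoc, Units.val_mul]
          show (Matrix.transvection a c t * (E * g₁).1) i j = _
          rcases eq_or_ne i a with rfl | hia
          · rw [Matrix.transvection_mul_apply_same, hEc i j hj, hEc c j hj,
              if_neg (fun h : c = j => by subst h; exact lt_irrefl _ hj), mul_zero, add_zero]
          · rw [Matrix.transvection_mul_apply_of_ne _ _ _ _ hia, hEc i j hj]
        · rw [mul_assoc, Units.val_mul]
          show (Matrix.transvection a c t * (E * g₁).1) i c = _
          rcases eq_or_ne i a with rfl | hia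
          · rw [Matrix.transvection_mul_apply_same, hEs i, hEs c, if_neg ha, if_neg hc.2,
              if_pos (Finset.mem_insert_self _ _), show g₁.1 c c = (w : R) from hw.symm]
            simp [t, mul_assoc]
          · rw [Matrix.transvection_mul_apply_of_ne _ _ _ _ hia, hEs i]
            simp [hia]
    obtain ⟨E₂, hE₂, hE₂c, hE₂s⟩ := hclear (Finset.univ.erase c) (Finset.notMem_erase _ _)
    let g₂ := E₂ * g₁
    have hdet₂ : g₂.1.det = 1 := by
      rw [Units.val_mul, Matrix.det_mul, hdetH _ hE₂, hdet₁, one_mul]
    have hg₂c : ∀ i, g₂.1 i c = if i = c then (w : R) else 0 := by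
      intro i
      rw [hE₂s i]
      by_cases hic : i = c
      · subst hic; simp; exact hw.symm
      · simp [hic]
    suffices g₂ ∈ H by
      simp only [g₂, g₁] at this
      exact (H.mul_mem_cancel_left hE₁).mp ((H.mul_mem_cancel_left hE₂).mp this)
    by_cases hlast : k = 0
    · subst hlast
      have hval : g₂.1 = Matrix.diagonal (Function.update 1 c (w : R)) := by
        ext i j
        rcases eq_or_ne j c with rfl | hjc
        · rw [hg₂c i, Matrix.diagonal_apply]
          by_cases hic : i = c <;> simp [hic]
        · have hj : j.val < c.val := by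
            have := j.isLt; have : j.val ≠ c.val := fun h => hjc (Fin.ext h)
            simp only [c] at *; omega
          rw [hE₂c i j hj, Matrix.diagonal_apply]
          by_cases hij : i = j
          · subst hij; simp [hjc]
          · simp [hij]
      have hw1 : (w : R) = 1 := by
        rw [hval, Matrix.det_diagonal, Finset.prod_eq_single c (fun b _ hb => by simp [hb])
          (fun h => absurd (Finset.mem_univ c) h), Function.update_self] at hdet₂
        exact hdet₂
      have : g₂ = 1 := Units.ext (by rw [hval, hw1, Units.val_one, ← Matrix.diagonal_one]; congr 1; simp; rfl)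
      rw [this]; exact H.one_mem
    · let l : Fin n := ⟨n - 1, by omega⟩
      have hcl : c ≠ l := fun h => hlast (by simp [c, l, Fin.ext_iff] at h; omega)
      let D := diagU (Function.update (Function.update (1 : Fin n → Rˣ) c w⁻¹) l w⁻¹⁻¹)
      have hD : D ∈ H := diagU_pair_mem _ _ _ hcl
      refine (H.mul_mem_cancel_left hD).mp (ih (by omega) (D * g₂) ?_ fun i j hj => ?_)
      · rw [Units.val_mul, Matrix.det_mul, hdetH _ hD, hdet₂, one_mul]
      · rw [Units.val_mul]
        show (Matrix.diagonal (fun a => ((Function.update (Function.update (1 : Fin n → Rˣ) c w⁻¹) l w⁻¹⁻¹ a : Rˣ) : R)) * g₂.1 : Matrix (Fin n) (Fin n) R) i j = _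
        rw [Matrix.diagonal_mul]
        have hjl : j ≠ l := fun h => by subst h; simp [l] at hj; omega
        rcases eq_or_ne j c with rfl | hjc
        · rw [hg₂c i]
          by_cases hic : i = c
          · subst hic; simp [hjl]
          · simp [hic]
        · have hj' : j.val < c.val := by
            have : j.val ≠ c.val := fun h => hjc (Fin.ext h)
            simp only [c] at *; omega
          rw [hE₂c i j hj']
          by_cases hij : i = j
          · subst hij; simp [hjl, hjc]
          · simp [hij]

end SLCommLib
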