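import Mathlib

/-!
# Spreading out membership in the commutator subgroup of `GL_n`
-/

universe u

open Matrix
open scoped commutatorElement

namespace SLCommLib

variable {R : Type u} [CommRing R] {n : ℕ}

/-- The map between localisations away from elements, the second a multiple of the first. -/
noncomputable def awayMap {g h : R} (H : g ∣ h) : Localization.Away g →+* Localization.Away h :=
  IsLocalization.Away.lift g (g := algebraMap R (Localization.Away h))
    (isUnit_of_dvd_unit (map_dvd _ H) (IsLocalization.Away.algebraMap_isUnit h))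

theorem awayMap_algebraMap {g h : R} (H : g ∣ h) (x : R) :
    awayMap H (algebraMap R _ x) = algebraMap R _ x := IsLocalization.Away.lift_eq _ _ x

/-- The map from a localisation away from an element to the local ring at a prime avoiding it. -/
noncomputable def toAtPrime {g : R} (q : Ideal R) [q.IsPrime] (hg : g ∉ q) :
    Localization.Away g →+* Localization.AtPrime q :=
  IsLocalization.Away.lift g (g := algebraMap R (Localization.AtPrime q))
    (IsLocalization.map_units (Localization.AtPrime q) (⟨g, hg⟩ : q.primeCompl))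

theorem toAtPrime_algebraMap {g : R} (q : Ideal R) [q.IsPrime] (hg : g ∉ q) (x : R) :
    toAtPrime q hg (algebraMap R _ x) = algebraMap R _ x := IsLocalization.Away.lift_eq _ _ x

theorem toAtPrime_comp {g h : R} (H : g ∣ h) (q : Ideal R) [q.IsPrime] (hg : g ∉ q) (hh : h ∉ q) :
    (toAtPrime q hh).comp (awayMap H) = toAtPrime q hg :=
  IsLocalization.ringHom_ext (Submonoid.powers g) (RingHom.ext fun x => by
    simp only [RingHom.comp_apply, awayMap_algebraMap, toAtPrime_algebraMap])

/-- Two elements of a localisation away from `g` with equal images in the local ring agree after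
further localisation. -/
theorem exists_awayMap_eq {g : R} (q : Ideal R) [q.IsPrime] (hg : g ∉ q) (a b : Localization.Away g)
    (h : toAtPrime q hg a = toAtPrime q hg b) :
    ∃ t ∉ q, ∀ t', t ∣ t' → awayMap (dvd_mul_right g t') a = awayMap (dvd_mul_right g t') b := by
  obtain ⟨⟨x, s⟩, hx⟩ := IsLocalization.surj (Submonoid.powers g) (a - b)
  have h1 : toAtPrime q hg (algebraMap R _ x) = 0 := by rw [← hx, map_mul, map_sub, h, sub_self, zero_mul]
  rw [toAtPrime_algebraMap, IsLocalization.map_eq_zero_iff q.primeCompl] at h1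
  obtain ⟨t, ht⟩ := h1
  refine ⟨t, t.2, fun t' ⟨e, he⟩ => ?_⟩
  have h3 : algebraMap R (Localization.Away (g * t')) x = 0 := by
    rw [IsLocalization.map_eq_zero_iff (Submonoid.powers (g * t'))]
    refine ⟨⟨g * t', 1, pow_one _⟩, ?_⟩
    show g * t' * x = 0
    rw [he, show g * (↑t * e) * x = g * e * (↑t * x) by ring, ht, mul_zero]
  have h4 := congrArg (awayMap (dvd_mul_right g t')) hx
  rw [map_mul, awayMap_algebraMap, awayMap_algebraMap, h3] at h4
  obtain ⟨k, hk⟩ := s.2
  have hu : IsUnit (algebraMap R (Localization.Away (g * t')) (s : R)) := by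
    rw [← hk, map_pow]
    exact (isUnit_of_dvd_unit (map_dvd _ (dvd_mul_right g t')) (IsLocalization.Away.algebraMap_isUnit (g * t'))).pow k
  exact sub_eq_zero.mp (by rw [← map_sub]; exact hu.mul_left_eq_zero.mp h4)

/-- Matrices in a localisation with the same image agree after further localisation. -/
theorem exists_GL_eq {g : R} (q : Ideal R) [q.IsPrime] (hg : g ∉ q) (A B : GL (Fin n) (Localization.Away g))
    (h : GeneralLinearGroup.map (toAtPrime q hg) A = GeneralLinearGroup.map (toAtPrime q hg) B) :
    ∃ t ∉ q, GeneralLinearGroup.map (awayMap (dvd_mul_right g t)) A =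
      GeneralLinearGroup.map (awayMap (dvd_mul_right g t)) B := by
  classical
  choose t ht hte using fun ij : Fin n × Fin n =>
    exists_awayMap_eq q hg (A.1 ij.1 ij.2) (B.1 ij.1 ij.2)
      (congrArg (fun M : GL (Fin n) (Localization.AtPrime q) => M.1 ij.1 ij.2) h)
  refine ⟨∏ ij, t ij, fun hm => ?_, Units.ext (Matrix.ext fun i j => hte (i, j) _ (Finset.dvd_prod_of_mem t (Finset.mem_univ _)))⟩
  obtain ⟨ij, -, hij⟩ := (Ideal.IsPrime.prod_mem_iff).mp hm
  exact ht ij hij

/-- An element of `GL` of a local ring comes from a principal localisation. -/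
theorem exists_GL_lift (q : Ideal R) [q.IsPrime] (x : GL (Fin n) (Localization.AtPrime q)) :
    ∃ (g : R) (hg : g ∉ q) (y : GL (Fin n) (Localization.Away g)),
      GeneralLinearGroup.map (toAtPrime q hg) y = x := by
  classical
  obtain ⟨c, hc⟩ := IsLocalization.exist_integer_multiples q.primeCompl (Finset.univ : Finset ((Fin n × Fin n) ⊕ (Fin n × Fin n)))
    (fun k => k.elim (fun ij => x.1 ij.1 ij.2) (fun ij => x.2 ij.1 ij.2))
  choose a ha using fun k => hc k (Finset.mem_univ k)
  have hcu : IsUnit (algebraMap R (Localization.Away (c : R)) c) := IsLocalization.Away.algebraMap_isUnit (c : R)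
  obtain ⟨cu, hcu'⟩ := hcu
  let mk : R → Localization.Away (c : R) := fun r => algebraMap R _ r * ↑cu⁻¹
  have hmk : ∀ k, toAtPrime q c.2 (mk (a k)) =
      k.elim (fun ij => x.1 ij.1 ij.2) (fun ij => x.2 ij.1 ij.2) := fun k => by
    have h1 : toAtPrime q c.2 (↑cu⁻¹) * algebraMap R _ (c : R) = 1 := by
      rw [← toAtPrime_algebraMap q c.2 (c : R), ← map_mul, ← hcu', Units.inv_mul, map_one]
    have h2 := ha k
    simp only [mk, map_mul, toAtPrime_algebraMap]
    rw [h2, show ∀ z : Localization.AtPrime q, (c : R) • z = algebraMap R _ (c : R) * z from fun z => Algebra.smul_def _ z,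
      mul_comm, ← mul_assoc, h1, one_mul]
  let M : Matrix (Fin n) (Fin n) (Localization.Away (c : R)) := fun i j => mk (a (Sum.inl (i, j)))
  have hM : M.map (toAtPrime q c.2) = x.1 := Matrix.ext fun i j => hmk (Sum.inl (i, j))
  have hdet : toAtPrime q c.2 M.det = x.1.det := by
    rw [RingHom.map_det, RingHom.mapMatrix_apply, hM]
  obtain ⟨⟨d, s⟩, hd⟩ := IsLocalization.surj (Submonoid.powers (c : R)) M.det
  have hdq : d ∉ q := by
    intro hdq
    have h1 := congrArg (toAtPrime q c.2) hd
    rw [map_mul, hdet, toAtPrime_algebraMap, toAtPrime_algebraMap] at h1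
    have h2 : IsUnit (algebraMap R (Localization.AtPrime q) d) := by
      rw [← h1]
      refine IsUnit.mul (Matrix.isUnit_iff_isUnit_det _ |>.mp x.isUnit) ?_
      obtain ⟨k, hk⟩ := s.2
      rw [← hk, map_pow]
      exact (IsLocalization.map_units _ c).pow k
    exact (IsLocalization.AtPrime.isUnit_to_map_iff (Localization.AtPrime q) q d).mp h2 hdq
  have hg : (c : R) * d ∉ q := q.primeCompl.mul_mem c.2 hdq
  let φ := awayMap (dvd_mul_right (c : R) d)
  have hMu : IsUnit (M.map φ).det := by
    have h1 := congrArg φ hd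
    rw [map_mul, awayMap_algebraMap, awayMap_algebraMap] at h1
    have h2 : IsUnit (algebraMap R (Localization.Away ((c : R) * d)) d) :=
      isUnit_of_dvd_unit (map_dvd _ (dvd_mul_left d (c : R))) (IsLocalization.Away.algebraMap_isUnit _)
    rw [show (M.map φ).det = φ M.det from (RingHom.map_det φ M).symm]
    exact isUnit_of_mul_isUnit_left (h1.symm ▸ h2)
  refine ⟨(c : R) * d, hg, GeneralLinearGroup.mk'' (M.map φ) hMu, Units.ext ?_⟩
  show (M.map φ).map (toAtPrime q hg) = x.1
  rw [Matrix.map_map, ← RingHom.coe_comp, toAtPrime_comp]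
  exact hM

theorem map_mem_commutator {S T : Type u} [CommRing S] [CommRing T] (f : S →+* T) {x : GL (Fin n) S}
    (hx : x ∈ commutator (GL (Fin n) S)) :
    GeneralLinearGroup.map f x ∈ commutator (GL (Fin n) T) := by
  have h : (commutator (GL (Fin n) S)).map (GeneralLinearGroup.map f) ≤ commutator (GL (Fin n) T) := by
    rw [commutator_def, Subgroup.map_commutator]
    exact Subgroup.commutator_mono le_top le_top
  exact h ⟨x, hx, rfl⟩

/-- Membership in the commutator subgroup spreads out from a local ring. -/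
theorem exists_commutator_lift (q : Ideal R) [q.IsPrime] (x : GL (Fin n) (Localization.AtPrime q))
    (hx : x ∈ commutator (GL (Fin n) (Localization.AtPrime q))) :
    ∃ (g : R) (hg : g ∉ q) (y : GL (Fin n) (Localization.Away g)),
      y ∈ commutator (GL (Fin n) (Localization.Away g)) ∧
        GeneralLinearGroup.map (toAtPrime q hg) y = x := by
  have hup : ∀ {g h : R} (H : g ∣ h) (hg : g ∉ q) (hh : h ∉ q) (y : GL (Fin n) (Localization.Away g)),
      GeneralLinearGroup.map (toAtPrime q hh) (GeneralLinearGroup.map (awayMap H) y) =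
        GeneralLinearGroup.map (toAtPrime q hg) y := fun H hg hh y => by
    rw [← toAtPrime_comp H q hg hh, GeneralLinearGroup.map_comp]
    rfl
  rw [commutator_eq_closure] at hx
  induction hx using Subgroup.closure_induction with
  | mem z hz =>
    obtain ⟨a, b, rfl⟩ := mem_commutatorSet_iff.mp hz
    obtain ⟨g₁, hg₁, a', rfl⟩ := exists_GL_lift q a
    obtain ⟨g₂, hg₂, b', rfl⟩ := exists_GL_lift q b
    have hg : g₁ * g₂ ∉ q := q.primeCompl.mul_mem hg₁ hg₂
    refine ⟨g₁ * g₂, hg, ⁅GeneralLinearGroup.map (awayMap (dvd_mul_right g₁ g₂)) a',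
      GeneralLinearGroup.map (awayMap (dvd_mul_left g₂ g₁)) b'⁆, ?_, ?_⟩
    · rw [commutator_def]
      exact Subgroup.commutator_mem_commutator (Subgroup.mem_top _) (Subgroup.mem_top _)
    · rw [map_commutatorElement, hup _ hg₁ hg, hup _ hg₂ hg]
  | one =>
    exact ⟨1, fun h => Ideal.IsPrime.ne_top ‹_› ((Ideal.eq_top_iff_one q).mpr h), 1, one_mem _, map_one _⟩
  | mul a b _ _ iha ihb =>
    obtain ⟨g₁, hg₁, a', ha', rfl⟩ := iha
    obtain ⟨g₂, hg₂, b', hb', rfl⟩ := ihb
    have hg : g₁ * g₂ ∉ q := q.primeCompl.mul_mem hg₁ hg₂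
    exact ⟨g₁ * g₂, hg, _, mul_mem (map_mem_commutator (awayMap (dvd_mul_right g₁ g₂)) ha')
      (map_mem_commutator (awayMap (dvd_mul_left g₂ g₁)) hb'), by rw [map_mul, hup _ hg₁ hg, hup _ hg₂ hg]⟩
  | inv a _ iha =>
    obtain ⟨g₁, hg₁, a', ha', rfl⟩ := iha
    exact ⟨g₁, hg₁, a'⁻¹, inv_mem ha', map_inv _ _⟩

/-- A matrix over `R` whose image at a prime is a product of commutators becomes one over a
principal localisation. -/
theorem exists_mem_commutator (q : Ideal R) [q.IsPrime] (s : GL (Fin n) R)
    (hs : GeneralLinearGroup.map (algebraMap R (Localization.AtPrime q)) s ∈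
      commutator (GL (Fin n) (Localization.AtPrime q))) :
    ∃ g ∉ q, GeneralLinearGroup.map (algebraMap R (Localization.Away g)) s ∈
      commutator (GL (Fin n) (Localization.Away g)) := by
  obtain ⟨g, hg, y, hy, hys⟩ := exists_commutator_lift q _ hs
  obtain ⟨t, ht, hte⟩ := exists_GL_eq q hg y (GeneralLinearGroup.map (algebraMap R (Localization.Away g)) s)
    (hys.trans (by
      refine Units.ext (Matrix.ext fun i j => ?_)
      exact (toAtPrime_algebraMap q hg (s.1 i j)).symm))
  refine ⟨g * t, q.primeCompl.mul_mem hg ht, ?_⟩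
  have h1 := map_mem_commutator (awayMap (dvd_mul_right g t)) hy
  rw [hte] at h1
  convert h1 using 1
  refine Units.ext (Matrix.ext fun i j => ?_)
  exact (awayMap_algebraMap (dvd_mul_right g t) (s.1 i j)).symm

end SLCommLib
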